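import Cfsg.Agent.Lib.FFComp65.Spec
import Cfsg.Agent.Lib.PLocal.Replacement
import Cfsg.Prelude.Def_BaumannBlocks
import Cfsg.Prelude.Def_LocalEven

/-!
# From the component theorem to a `p`-minimal subgroup of a group acting on `V`

`P` normalises the elementary abelian subgroup `V` and acts faithfully on it; the components are
mapped back to subgroups of the ambient group.
-/

set_option autoImplicit false
set_option linter.unusedSectionVars false

namespace Cfsg.Agent.Lib.FFComp65.Derive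

open Cfsg
open Cfsg.Agent.Lib.RankOneFF (fixW cjS)
open scoped commutatorElement IsMulCommutative

universe u

variable {G : Type u} [Group G] {V P : Subgroup G}

/-- Conjugation of `P` on `Additive V`. -/
@[reducible] def act (hPV : P ≤ Subgroup.normalizer (V : Set G)) :
    DistribMulAction P (Additive V) where
  smul h v := Additive.ofMul (Subgroup.normalizerMonoidHom V ⟨h, hPV h.2⟩ v.toMul)
  one_smul v := by
    show Additive.ofMul (Subgroup.normalizerMonoidHom V 1 v.toMul) = v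
    rw [map_one]
    rfl
  mul_smul h k v := by
    show Additive.ofMul (Subgroup.normalizerMonoidHom V (⟨h, hPV h.2⟩ * ⟨k, hPV k.2⟩) v.toMul) =
      Additive.ofMul (Subgroup.normalizerMonoidHom V ⟨h, hPV h.2⟩
        (Subgroup.normalizerMonoidHom V ⟨k, hPV k.2⟩ v.toMul))
    rw [map_mul]
    rfl
  smul_zero h := congrArg Additive.ofMul (map_one _)
  smul_add h u v := congrArg Additive.ofMul (map_mul _ _ _)

variable [IsMulCommutative V]

/-- An additive subgroup of the module as a subgroup of `G`. -/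
def toG (S : AddSubgroup (Additive V)) : Subgroup G := (AddSubgroup.toSubgroup' S).map V.subtype

theorem mem_toG {S : AddSubgroup (Additive V)} {x : G} :
    x ∈ toG S ↔ ∃ h : x ∈ V, Additive.ofMul (⟨x, h⟩ : V) ∈ S := by
  constructor
  · rintro ⟨y, hy, rfl⟩
    exact ⟨y.2, hy⟩
  · rintro ⟨h, hS⟩
    exact ⟨⟨x, h⟩, hS, rfl⟩

theorem coe_mem_toG {S : AddSubgroup (Additive V)} {v : Additive V} :
    (v.toMul : G) ∈ toG S ↔ v ∈ S :=
  ⟨fun h => (mem_toG.1 h).choose_spec, fun h => mem_toG.2 ⟨v.toMul.2, h⟩⟩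

theorem toG_mono {S T : AddSubgroup (Additive V)} (h : S ≤ T) : toG S ≤ toG T :=
  fun _ hx => let ⟨h1, h2⟩ := mem_toG.1 hx; mem_toG.2 ⟨h1, h h2⟩

theorem toG_iSup {ι : Sort*} (S : ι → AddSubgroup (Additive V)) :
    toG (⨆ i, S i) = ⨆ i, toG (S i) := by
  simp only [toG, OrderIso.map_iSup, Subgroup.map_iSup]

theorem toG_sup (S T : AddSubgroup (Additive V)) : toG (S ⊔ T) = toG S ⊔ toG T := by
  simp only [toG, OrderIso.map_sup, Subgroup.map_sup]

theorem toG_top : toG (⊤ : AddSubgroup (Additive V)) = V :=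
  le_antisymm (Subgroup.map_subtype_le _) fun _ hx => mem_toG.2 ⟨hx, AddSubgroup.mem_top _⟩

theorem card_toG (S : AddSubgroup (Additive V)) : Nat.card (toG S) = Nat.card S :=
  (Subgroup.card_map_of_injective V.subtype_injective).trans rfl

variable (hPV : P ≤ Subgroup.normalizer (V : Set G))

local notation "E⟨" E "⟩" => Subgroup.map P.subtype E

theorem val_smul (h : P) (v : Additive V) :
    letI := act hPV
    ((h • v).toMul : G) = (h : G) * (v.toMul : G) * (h : G)⁻¹ := rfl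

theorem toG_fixW (E : Subgroup P) :
    letI := act hPV
    toG (fixW (Additive V) E) = V ⊓ Subgroup.centralizer (E⟨E⟩ : Set G) := by
  letI := act hPV
  have key : ∀ (h : P) (v : Additive V), h • v = v ↔ (h : G) * (v.toMul : G) = (v.toMul : G) * h := by
    intro h v
    rw [← mul_inv_eq_iff_eq_mul, ← val_smul hPV h v]
    exact ⟨fun e => by rw [e], fun e => Additive.toMul.injective (Subtype.ext e)⟩
  ext x
  rw [mem_toG]
  constructor
  · rintro ⟨h, hx⟩
    refine ⟨h, Subgroup.mem_centralizer_iff.2 ?_⟩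
    rintro _ ⟨e, he, rfl⟩
    exact (key e _).1 (hx e he)
  · rintro ⟨h, hx⟩
    exact ⟨h, fun e he => (key e _).2
      (Subgroup.mem_centralizer_iff.1 hx _ ⟨e, he, rfl⟩)⟩

theorem toG_commW (E : Subgroup P) :
    letI := act hPV
    toG (commW (Additive V) E) = ⁅V, E⟨E⟩⁆ := by
  letI := act hPV
  have hdiff : ∀ (a : P) (w : Additive V),
      (((a • w - w).toMul : V) : G) = ⁅((w.toMul : G))⁻¹, (a : G)⁆ := fun a w => by
    have h4 : (((a • w - w).toMul : V) : G) = (((w.toMul)⁻¹ * (a • w).toMul : V) : G) := by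
      rw [sub_eq_add_neg, toMul_add, toMul_neg, mul_comm]
    rw [h4, Subgroup.coe_mul, Subgroup.coe_inv, val_smul hPV, commutatorElement_def, inv_inv]
    group
  refine le_antisymm ?_ ?_
  · intro x hx
    obtain ⟨hxV, hxS⟩ := mem_toG.1 hx
    suffices h : commW (Additive V) E ≤ AddSubgroup.toSubgroup'.symm (⁅V, E⟨E⟩⁆.subgroupOf V) from
      h hxS
    rw [commW_le_iff]
    intro a ha w
    show ((a • w - w).toMul : G) ∈ ⁅V, E⟨E⟩⁆
    rw [hdiff]
    exact Subgroup.commutator_mem_commutator (inv_mem w.toMul.2) ⟨a, ha, rfl⟩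
  · rw [Subgroup.commutator_le]
    rintro v hv _ ⟨a, ha, rfl⟩
    have h1 := smul_sub_mem_commW (W := Additive V) ha (Additive.ofMul (⟨v, hv⟩ : V)⁻¹)
    have h2 := hdiff a (Additive.ofMul (⟨v, hv⟩ : V)⁻¹)
    simp only [toMul_ofMul, Subgroup.coe_inv, inv_inv] at h2
    rw [show (P.subtype a : G) = (a : G) from rfl, ← h2]
    exact coe_mem_toG.2 h1

include hPV in
theorem le_normalizer_commutator (E : Subgroup P) :
    E⟨E⟩ ≤ Subgroup.normalizer ((⁅V, E⟨E⟩⁆ : Subgroup G) : Set G) := by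
  intro e he
  refine Subgroup.mem_normalizer_iff.2 fun x => ?_
  have key : ∀ f ∈ E⟨E⟩, ∀ y ∈ ⁅V, E⟨E⟩⁆, f * y * f⁻¹ ∈ ⁅V, E⟨E⟩⁆ := by
    intro f hf y hy
    have h1 : Subgroup.map (MulAut.conj f).toMonoidHom ⁅V, E⟨E⟩⁆ ≤ ⁅V, E⟨E⟩⁆ := by
      rw [Subgroup.map_commutator]
      refine Subgroup.commutator_mono ?_ ?_
      · rintro _ ⟨v, hv, rfl⟩
        exact (Subgroup.mem_normalizer_iff.1 (hPV (Subgroup.map_subtype_le _ hf)) v).1 hv
      · rintro _ ⟨v, hv, rfl⟩
        exact mul_mem (mul_mem hf hv) (inv_mem hf)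
    exact h1 ⟨y, hy, rfl⟩
  refine ⟨key e he x, fun h => ?_⟩
  simpa [mul_assoc] using key e⁻¹ (inv_mem he) _ h

include hPV in
theorem commutator_le_V (E : Subgroup P) : ⁅V, E⟨E⟩⁆ ≤ V := by
  letI := act hPV
  rw [← toG_commW hPV E]
  exact Subgroup.map_subtype_le _

/-- An element of the commutator subgroup in the additive commutator space. -/
def toCommW (E : Subgroup P) : letI := act hPV
    ↥⁅V, E⟨E⟩⁆ →* Multiplicative (commW (Additive V) E) :=
  letI := act hPV
  { toFun := fun u => Multiplicative.ofAdd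
      ⟨Additive.ofMul (⟨u, commutator_le_V hPV E u.2⟩ : V),
        (mem_toG.1 ((toG_commW hPV E).ge u.2)).choose_spec⟩
    map_one' := rfl
    map_mul' := fun _ _ => rfl }

theorem toCommW_surjective (E : Subgroup P) : Function.Surjective (toCommW hPV E) := fun w => by
  letI := act hPV
  refine ⟨⟨(((Multiplicative.toAdd w : commW (Additive V) E) : Additive V)).toMul, ?_⟩, rfl⟩
  rw [← toG_commW hPV E]
  exact coe_mem_toG.2 (Multiplicative.toAdd w).2

theorem toCommW_mem_fix (E : Subgroup P) (u : ↥⁅V, E⟨E⟩⁆) : letI := act hPV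
    ((Multiplicative.toAdd (toCommW hPV E u) : commW (Additive V) E) : Additive V) ∈
        fixW (Additive V) E ↔
      (u : G) ∈ ⁅V, E⟨E⟩⁆ ⊓ Subgroup.centralizer (E⟨E⟩ : Set G) := by
  letI := act hPV
  constructor
  · intro h
    exact ⟨u.2, ((toG_fixW hPV E).le (coe_mem_toG.2 h)).2⟩
  · intro h
    exact coe_mem_toG.1 ((toG_fixW hPV E).ge ⟨commutator_le_V hPV E u.2, h.2⟩)

theorem toCommW_conj (E : Subgroup P) (e : ↥E⟨E⟩) (u : ↥⁅V, E⟨E⟩⁆) : letI := act hPV
    ∃ w : ↥⁅V, E⟨E⟩⁆, (w : G) = (e : G) * u * (e : G)⁻¹ ∧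
      ((Multiplicative.toAdd (toCommW hPV E w) : commW (Additive V) E) : Additive V) =
        (((E.equivMapOfInjective P.subtype P.subtype_injective).symm e : E) : P) •
          ((Multiplicative.toAdd (toCommW hPV E u) : commW (Additive V) E) : Additive V) := by
  letI := act hPV
  refine ⟨⟨_, (Subgroup.mem_normalizer_iff.1 (le_normalizer_commutator hPV E e.2) _).1 u.2⟩, rfl,
    Additive.toMul.injective (Subtype.ext ?_)⟩
  rw [val_smul hPV]
  have h1 : (((E.equivMapOfInjective P.subtype P.subtype_injective).symm e : E) : G) = (e : G) :=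
    congrArg Subtype.val ((E.equivMapOfInjective P.subtype P.subtype_injective).apply_symm_apply e)
  rw [h1]
  rfl

theorem actsAsSL2 {p n : ℕ} (E : Subgroup P) (h : letI := act hPV; SLNat (Additive V) p n E) :
    ∃ (F : Type) (_ : Field F) (_ : Fintype F), Fintype.card F = p ^ n ∧
      Nonempty (↥E⟨E⟩ ≃* Matrix.SpecialLinearGroup (Fin 2) F) ∧
      ActsAsSL2OnSection F ⊤ E⟨E⟩ ⁅V, E⟨E⟩⁆
        (⁅V, E⟨E⟩⁆ ⊓ Subgroup.centralizer (E⟨E⟩ : Set G)) := by
  letI := act hPV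
  obtain ⟨F, iF, iFt, hcard, ρ, ψ, hsurj, hker, hact⟩ := h
  set ρ' := (E.equivMapOfInjective P.subtype P.subtype_injective).symm.trans ρ
  refine ⟨F, iF, iFt, hcard, ⟨ρ'⟩, le_normalizer_commutator hPV E, inf_le_left, ρ'.toMonoidHom,
    (AddMonoidHom.toMultiplicative ψ).comp (toCommW hPV E), ?_, ?_, fun u => ?_, fun e u => ?_⟩
  · exact MonoidHom.range_eq_top.2 ρ'.surjective
  · intro v
    obtain ⟨x, hx⟩ := hsurj (Multiplicative.toAdd v)
    obtain ⟨u, hu⟩ := toCommW_surjective hPV E (Multiplicative.ofAdd x)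
    exact ⟨u, by simp [hu, hx]⟩
  · rw [← toCommW_mem_fix hPV E u, ← hker]
    exact Iff.rfl
  · obtain ⟨w, hw, hw'⟩ := toCommW_conj hPV E e u
    exact ⟨w, hw, hact _ _ _ hw'⟩

theorem actsAsPerm {m : ℕ} (E : Subgroup P) (h : letI := act hPV; PermNat (Additive V) m E) :
    Nonempty (↥E⟨E⟩ ≃* Equiv.Perm (Fin m)) ∧
      ActsAsOddPermModuleOnSection m ⊤ E⟨E⟩ ⁅V, E⟨E⟩⁆
        (⁅V, E⟨E⟩⁆ ⊓ Subgroup.centralizer (E⟨E⟩ : Set G)) := by
  letI := act hPV
  obtain ⟨ρ, ψ, hsum, hsurj, hker, hact⟩ := h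
  set ρ' := (E.equivMapOfInjective P.subtype P.subtype_injective).symm.trans ρ
  refine ⟨⟨ρ'⟩, le_normalizer_commutator hPV E, inf_le_left, ρ'.toMonoidHom,
    (AddMonoidHom.toMultiplicative ψ).comp (toCommW hPV E), ?_, fun u => hsum _, ?_, fun u => ?_,
    fun e u => ?_⟩
  · exact MonoidHom.range_eq_top.2 ρ'.surjective
  · intro v hv
    obtain ⟨x, hx⟩ := hsurj v hv
    obtain ⟨u, hu⟩ := toCommW_surjective hPV E (Multiplicative.ofAdd x)
    exact ⟨u, by simp [hu, hx]⟩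
  · rw [← toCommW_mem_fix hPV E u, ← hker]
    exact Iff.rfl
  · obtain ⟨w, hw, hw'⟩ := toCommW_conj hPV E e u
    exact ⟨w, hw, hact _ _ _ hw'⟩

/-- The statement about a `p`-minimal subgroup, given the component theorem. -/
theorem main {p : ℕ} [Fact p.Prime] [Finite G] (hCS : ComponentsStatement.{u, u})
    (hV : IsElementaryAbelian p V) (hfaith : P ⊓ Subgroup.centralizer (V : Set G) = ⊥)
    (hPV : P ≤ Subgroup.normalizer (V : Set G))
    (hmin : IsPMinimal p ↥P) (T : Sylow p ↥P) (M : Subgroup ↥P) (hM : IsCoatom M)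
    (hTM : (T : Subgroup ↥P) ≤ M) (hOp : pCore p ↥P = ⊥)
    (hoff : ∃ A : Subgroup G, A ≤ P ∧ ¬ A ≤ Subgroup.centralizer (V : Set G) ∧
      IsBestOffenderOn p V A)
    (hCT : P ⊓ Subgroup.centralizer
      ((V ⊓ Subgroup.centralizer ((E⟨(T : Subgroup ↥P)⟩ : Subgroup G) : Set G)) : Set G) ≤ E⟨M⟩) :
    ∃ (r : ℕ) (E : Fin r → Subgroup G), 1 ≤ r ∧ (∀ i, E i ≤ P) ∧
      (∀ i j, i ≠ j → ⁅E i, E j⁆ = ⊥) ∧ (∀ i, E i ⊓ (⨆ j ∈ {j | j ≠ i}, E j) = ⊥) ∧
      (⨆ i, E i) ⊔ E⟨(T : Subgroup ↥P)⟩ = P ∧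
      (∀ i j, ∃ t ∈ E⟨(T : Subgroup ↥P)⟩, (E i).map (MulAut.conj t).toMonoidHom = E j) ∧
      (V ⊓ Subgroup.centralizer (((⨆ i, E i) : Subgroup G) : Set G)) ⊔ (⨆ i, ⁅V, E i⁆) = V ∧
      (∀ i j, i ≠ j → ⁅⁅V, E i⁆, E j⁆ = ⊥) ∧
      ∀ i, ∃ n : ℕ, 1 ≤ n ∧ ((∃ (F : Type) (_ : Field F) (_ : Fintype F),
          Fintype.card F = p ^ n ∧ Nonempty (↥(E i) ≃* Matrix.SpecialLinearGroup (Fin 2) F) ∧
          ActsAsSL2OnSection F ⊤ (E i) ⁅V, E i⁆
            (⁅V, E i⁆ ⊓ Subgroup.centralizer ((E i : Subgroup G) : Set G))) ∨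
        (p = 2 ∧ Nonempty (↥(E i) ≃* Equiv.Perm (Fin (2 ^ n + 1))) ∧
          ActsAsOddPermModuleOnSection (2 ^ n + 1) ⊤ (E i) ⁅V, E i⁆
            (⁅V, E i⁆ ⊓ Subgroup.centralizer ((E i : Subgroup G) : Set G)))) := by
  letI := act hPV
  haveI : Finite (Additive V) := Finite.of_equiv V Additive.ofMul
  haveI : FaithfulSMul P (Additive V) := ⟨fun {h k} hhk => by
    have hm : (k : G)⁻¹ * h ∈ P ⊓ Subgroup.centralizer (V : Set G) := by
      refine ⟨P.mul_mem (P.inv_mem k.2) h.2, Subgroup.mem_centralizer_iff.mpr fun v hv => ?_⟩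
      have h1 := congrArg (fun w : Additive V => ((Additive.toMul w : V) : G))
        (hhk (Additive.ofMul ⟨v, hv⟩))
      simp only [val_smul hPV, toMul_ofMul] at h1
      calc v * ((k : G)⁻¹ * h) = (k : G)⁻¹ * ((k : G) * v * (k : G)⁻¹) * h := by group
        _ = (k : G)⁻¹ * ((h : G) * v * (h : G)⁻¹) * h := by rw [h1]
        _ = (k : G)⁻¹ * h * v := by group
    rw [hfaith, Subgroup.mem_bot, inv_mul_eq_one] at hm
    exact Subtype.ext hm.symm⟩
  have hpW : ∀ w : Additive V, p • w = 0 := fun w => by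
    refine Additive.toMul.injective (Subtype.ext ?_)
    show (((Additive.toMul w : V) ^ p : V) : G) = 1
    rw [SubmonoidClass.coe_pow, hV.2 _ (Additive.toMul w).2]
  have hpm : NoStrict.PMin p (Additive V) T M := by
    refine ⟨hM.1, hTM, fun Y hY hne => ?_, ?_⟩
    · obtain ⟨K, hK, hYK⟩ := (eq_top_or_exists_le_coatom Y).resolve_left hne
      exact hYK.trans (((hmin T).2.unique ⟨hK, hY.trans hYK⟩ ⟨hM, hTM⟩).le)
    · by_contra hcon
      push Not at hcon
      refine hM.1 ((Subgroup.eq_top_iff' M).2 fun x => ?_)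
      obtain ⟨y, hy, hyx⟩ := hCT (show (x : G) ∈ _ from ⟨x.2,
        Subgroup.mem_centralizer_iff.2 fun v hv => by
          obtain ⟨hv', hu⟩ := mem_toG.1 ((toG_fixW hPV (T : Subgroup ↥P)).ge hv)
          have h1 := congrArg (fun w : Additive V => ((Additive.toMul w : V) : G))
            (hcon _ hu x)
          simp only [val_smul hPV, toMul_ofMul] at h1
          rwa [mul_inv_eq_iff_eq_mul, eq_comm] at h1⟩)
      rwa [← show y = x from Subtype.ext hyx]
  obtain ⟨A, hAP, hAV, hbest, hAc, hAp⟩ := hoff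
  have hR : Exact p (Additive V) (A.subgroupOf P) ∧ A.subgroupOf P ≠ ⊥ := by
    have hmem : ∀ x ∈ A, x ∈ Subgroup.centralizer (V : Set G) → x = 1 := fun x hx hx' =>
      Subgroup.mem_bot.1 (hfaith ▸ ⟨hAP hx, hx'⟩)
    refine ⟨⟨fun a => ⟨1, Subtype.ext (Subtype.ext ?_)⟩, fun a ha b hb => Subtype.ext ?_, ?_⟩, ?_⟩
    · simpa using hmem _ (A.pow_mem a.2 p) (hAp _ a.2)
    · have h1 := hmem _ ?_ (hAc (Subgroup.commutator_mem_commutator ha hb))
      · exact commutatorElement_eq_one_iff_mul_comm.1 h1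
      · rw [commutatorElement_def]
        exact mul_mem (mul_mem (mul_mem ha hb) (inv_mem ha)) (inv_mem hb)
    · have h1 := hbest ⊥ bot_le
      rw [Subgroup.card_bot, one_mul] at h1
      rw [Nat.card_congr (Additive.toMul (α := V)), Nat.card_congr
        (Subgroup.subgroupOfEquivOfLe hAP).toEquiv, ← card_toG, toG_fixW hPV,
        Subgroup.map_subgroupOf_eq_of_le hAP]
      refine le_of_eq_of_le (congrArg (fun S : Subgroup G => Nat.card S) ?_).symm h1
      exact inf_eq_left.2 fun v _ => Subgroup.mem_centralizer_iff.2 fun b hb => by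
        rw [Subgroup.mem_bot.1 hb, one_mul, mul_one]
    · intro h0
      refine hAV fun a ha => ?_
      have h1 : (⟨a, hAP ha⟩ : P) ∈ A.subgroupOf P := Subgroup.mem_subgroupOf.2 ha
      rw [h0, Subgroup.mem_bot] at h1
      rw [show a = 1 from congrArg Subtype.val h1]
      exact one_mem _
  obtain ⟨r, E, hE⟩ := hCS P (Additive V) p T M hpW hpm hOp ⟨_, hR.1, hR.2⟩
  refine ⟨r, fun i => E⟨E i⟩, hE.pos, fun i => Subgroup.map_subtype_le _, fun i j hij => ?_,
    fun i => ?_, ?_, fun i j => ?_, ?_, fun i j hij => ?_, fun i => ?_⟩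
  · rw [Subgroup.commutator_eq_bot_iff_le_centralizer]
    rintro _ ⟨x, hx, rfl⟩
    refine Subgroup.mem_centralizer_iff.2 ?_
    rintro _ ⟨y, hy, rfl⟩
    exact congrArg Subtype.val (hE.commute i j hij x hx y hy).symm
  · simp only [← Subgroup.map_iSup]
    rw [← Subgroup.map_inf _ _ _ P.subtype_injective, hE.disjoint i, Subgroup.map_bot]
  · rw [← Subgroup.map_iSup, ← Subgroup.map_sup, hE.gen, ← MonoidHom.range_eq_map,
      Subgroup.range_subtype]
  · obtain ⟨t, ht, h1⟩ := hE.trans i j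
    refine ⟨t, ⟨t, ht, rfl⟩, ?_⟩
    show (E⟨E i⟩).map (MulAut.conj (t : G)).toMonoidHom = E⟨E j⟩
    rw [← h1, cjS, Subgroup.map_map, Subgroup.map_map]
    rfl
  · have h1 := congrArg toG hE.split
    rw [toG_sup, toG_iSup, toG_top, toG_fixW hPV, Subgroup.map_iSup] at h1
    simp only [toG_commW hPV] at h1
    exact h1
  · rw [Subgroup.commutator_eq_bot_iff_le_centralizer, ← toG_commW hPV]
    refine (toG_mono (hE.fix_other i j hij)).trans ?_
    rw [toG_fixW hPV]
    exact inf_le_right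
  · obtain ⟨n, hn, h1 | ⟨hp2, h2⟩⟩ := hE.natural i
    · exact ⟨n, hn, Or.inl (actsAsSL2 hPV _ h1)⟩
    · exact ⟨n, hn, Or.inr ⟨hp2, actsAsPerm hPV _ h2⟩⟩

end Cfsg.Agent.Lib.FFComp65.Derive
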